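import Groth.Agent.Lib.GrassBdl.ChartPts

/-!
# The charts of a Grassmannian of quotients
-/

set_option autoImplicit false
set_option linter.style.haveILetI false
set_option backward.isDefEq.respectTransparency false
set_option backward.isDefEq.respectTransparency.types false
universe u

open CategoryTheory CategoryTheory.Limits AlgebraicGeometry Opposite TopologicalSpace

namespace Groth.Agent.Lib.GrassBdl.Emb

noncomputable section

open Groth.Agent.Lib GrassRep.QuotBC WeilRep.Glue GrassGen ChartPts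
open Groth.Agent.Lib.GrassGen.Embed (IsUniv exists_chart_iso)

variable {X : Scheme.{u}} {E : X.Modules} {r : ℕ} [E.IsQuasicoherent] {G : Over X} {b : Pt E r G.hom}
  (hb : IsUniv G b) {U : X.Opens} (hU : IsAffineOpen U) (x : Fin r → Γ(E, U))

include hb in
theorem exists_emb : ∃ j : chart hU x ⟶ G, IsOpenImmersion j.left ∧
    bc j.left (Over.w j) b = cls (Ψ hU x) (rank_free _) ∧ Set.range j.left = (O x b : Set G.left) := by
  obtain ⟨γ, hγi, hγ⟩ := exists_chart_iso hb hU x
  haveI := hγi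
  have hw : inv γ.left ≫ (res G (O x b)).hom = (chart hU x).hom := by
    rw [IsIso.inv_comp_eq]; exact (Over.w γ).symm
  let δ : chart hU x ⟶ res G (O x b) := Over.homMk (inv γ.left) hw
  refine ⟨δ ≫ resι G (O x b), ?_, ?_, ?_⟩
  · show IsOpenImmersion (inv γ.left ≫ (O x b).ι)
    infer_instance
  · show bc (inv γ.left ≫ (O x b).ι) (Over.w (δ ≫ resι G (O x b))) b = _
    rw [bc_comp (inv γ.left) (O x b).ι (Over.w (resι G (O x b))) hw _ b, ← hγ,
      ← bc_comp (inv γ.left) γ.left (Over.w γ) hw (g'' := (chart hU x).hom) (by simp) _]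
    simp only [IsIso.inv_hom_id]
    exact bc_id _
  · show Set.range (inv γ.left ≫ (O x b).ι) = _
    rw [Scheme.Hom.comp_base, TopCat.coe_comp, Set.range_comp,
      Set.range_eq_univ.mpr (show Function.Surjective (inv γ.left) from (inv γ.left).homeomorph.surjective),
      Set.image_univ]
    exact Scheme.Opens.range_ι _

/-- The inclusion of a chart. -/
def emb : chart hU x ⟶ G := (exists_emb hb hU x).choose

instance isOpenImmersion_emb : IsOpenImmersion (emb hb hU x).left := (exists_emb hb hU x).choose_spec.1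

theorem bc_emb : bc (emb hb hU x).left (Over.w (emb hb hU x)) b = cls (Ψ hU x) (rank_free _) :=
  (exists_emb hb hU x).choose_spec.2.1

theorem range_emb : Set.range (emb hb hU x).left = (O x b : Set G.left) :=
  (exists_emb hb hU x).choose_spec.2.2

theorem opensRange_emb : (emb hb hU x).left.opensRange = O x b := by
  ext1; exact range_emb hb hU x

theorem preimage_O (y : Fin r → Γ(E, U)) :
    (emb hb hU x).left ⁻¹ᵁ O y b = O y (g := (chart hU x).hom) (univClass hU x) := by
  rw [← O_bc y (Over.w (emb hb hU x)) b, bc_emb]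
  rfl

theorem exists_pt_emb {A : Type u} [CommRing A] (t : Spec (CommRingCat.of A) ⟶ G.left)
    (ht : Set.range t ⊆ (O x b : Set G.left)) :
    ∃ ρ : GrassRep.S Γ(X, U) x →+* A, pt hU x ρ ≫ (emb hb hU x).left = t := by
  rw [← range_emb hb hU x] at ht
  obtain ⟨ρ, hρ⟩ := exists_pt hU x (IsOpenImmersion.lift _ t ht)
  exact ⟨ρ, by rw [← hρ, IsOpenImmersion.lift_fac]⟩

/-- Equal points in two charts have proportional coordinates. -/
theorem exists_transition_emb (y : Fin r → Γ(E, U)) {A : Type u} [CommRing A]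
    (ρ : GrassRep.S Γ(X, U) x →+* A) (ρ' : GrassRep.S Γ(X, U) y →+* A)
    (h : pt hU x ρ ≫ (emb hb hU x).left = pt hU y ρ' ≫ (emb hb hU y).left) :
    ∃ P : Matrix (Fin r) (Fin r) A, ∀ m : Γ(E, U),
      (fun i => ρ (GrassRep.coord x i m)) = Matrix.vecMul (fun i => ρ' (GrassRep.coord y i m)) P := by
  have hw : pt hU y ρ' ≫ (chart hU y).hom = pt hU x ρ ≫ (chart hU x).hom := by
    rw [← Over.w (emb hb hU y), ← Over.w (emb hb hU x), ← Category.assoc, ← Category.assoc, h]
  refine exists_transition hU x y ρ ρ' hw ?_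
  have hg : (pt hU x ρ ≫ (emb hb hU x).left) ≫ G.hom = pt hU x ρ ≫ (chart hU x).hom := by
    rw [Category.assoc, Over.w]
  rw [← bc_emb hb hU y, ← bc_emb hb hU x,
    ← bc_comp (pt hU y ρ') (emb hb hU y).left (Over.w (emb hb hU y)) hw (by rw [← h]; exact hg) b,
    ← bc_comp (pt hU x ρ) (emb hb hU x).left (Over.w (emb hb hU x)) rfl hg b]
  simp only [h]

theorem le_preimage : O x b ≤ G.hom ⁻¹ᵁ U := fun _ hz => hz.1

omit hb in
include hU in
theorem exists_mem (p : G.left) (hp : G.hom p ∈ U) : ∃ y : Fin r → Γ(E, U), p ∈ O y b := by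
  obtain ⟨y, hy⟩ := Span.exists_at hU G.hom (rank_quo b) (quo b) (le_refl (G.hom ⁻¹ᵁ U)) (p := p) hp
  exact ⟨y, hp, hy⟩

include hb hU in
/-- Generators cover. -/
theorem exists_sel_mem {N : ℕ} (e : Fin N → Γ(E, U)) (he : Submodule.span Γ(X, U) (Set.range e) = ⊤)
    (p : G.left) (hp : G.hom p ∈ U) : ∃ σ : Fin r → Fin N, p ∈ O (fun k => e (σ k)) b := by
  obtain ⟨y, hy⟩ := exists_mem (b := b) hU p hp
  rw [← SetLike.mem_coe, ← range_emb hb hU y] at hy
  obtain ⟨z, rfl⟩ := hy
  let P : PrimeSpectrum (GrassRep.S Γ(X, U) y) := z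
  let K := P.asIdeal.ResidueField
  let φ : GrassRep.Phi Γ(X, U) y K :=
    ⟨((IsScalarTower.toAlgHom Γ(X, U) (GrassRep.S Γ(X, U) y) K).toLinearMap.compLeft (Fin r)).comp
      (GrassRep.phiU Γ(X, U) y).1, fun k => funext fun i => by
      show algebraMap (GrassRep.S Γ(X, U) y) K ((GrassRep.phiU Γ(X, U) y).1 (y k) i) = _
      rw [(GrassRep.phiU Γ(X, U) y).2 k]
      rcases eq_or_ne i k with h | h
      · subst h; simp
      · simp [Pi.single_eq_of_ne h]⟩
  obtain ⟨σ, hσ⟩ := Alg.exists_sel φ e he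
  refine ⟨σ, ?_⟩
  show z ∈ (emb hb hU y).left ⁻¹ᵁ O (fun k => e (σ k)) b
  rw [preimage_O]
  refine (mem_O_univ_iff hU y _ P).2 fun hmem => hσ ?_
  have h1 : Alg.mat φ.1 (fun k => e (σ k)) = (M y fun k => e (σ k)).map (algebraMap (GrassRep.S Γ(X, U) y) K) := rfl
  rw [h1]
  exact (RingHom.map_det (algebraMap (GrassRep.S Γ(X, U) y) K) _).symm.trans
    (Ideal.algebraMap_residueField_eq_zero.2 hmem)

omit hb [E.IsQuasicoherent] in
/-- A locally free module has bases over small affine opens. -/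
theorem exists_basis {N : ℕ} (hE : FlatMod.IsFinLocFreeOfRank N E) (p : X) :
    ∃ W : X.Opens, IsAffineOpen W ∧ p ∈ W ∧ Nonempty (Module.Basis (Fin N) Γ(X, W) Γ(E, W)) := by
  obtain ⟨U₀, hpU₀, ⟨i⟩⟩ := hE p
  obtain ⟨e, he⟩ := Pinch.StalkFrame.exists_isFrame_of_iso i
  obtain ⟨W, hW, hpW, hle⟩ := exists_isAffineOpen_mem_and_subset (X := X) (x := p) hpU₀
  let f : Fin N → Γ(E, W) := fun k => TensorMod.Dual.rs E hle (e k)
  have hf : Pinch.StalkFrame.IsFrame E W f := fun z hz => (Frames.at_res e hle hz).2 (he z (hle hz))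
  have hlin : (fun c : Fin N → Γ(X, W) => Pinch.StalkFrame.comb f le_rfl c) =
      Fintype.linearCombination Γ(X, W) f := funext fun c => by
    simp [Pinch.StalkFrame.comb, TensorMod.Dual.rs_self, Fintype.linearCombination_apply]
  have hbij : Function.Bijective (Fintype.linearCombination Γ(X, W) f) := by
    rw [← hlin]
    exact ⟨Pinch.StalkFrame.comb_injective hf le_rfl, Pinch.StalkFrame.comb_surjective hf le_rfl⟩
  exact ⟨W, hW, hpW, ⟨Module.Basis.ofEquivFun (LinearEquiv.ofBijective _ hbij).symm⟩⟩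

theorem range_le_of_closedPoint {A : Type u} [CommRing A] [IsLocalRing A] {Y : Scheme.{u}}
    (t : Spec (CommRingCat.of A) ⟶ Y) (W : Y.Opens) (h : t (IsLocalRing.closedPoint A) ∈ W) :
    Set.range t ⊆ (W : Set Y) := by
  rintro _ ⟨z, rfl⟩
  exact ((IsLocalRing.specializes_closedPoint z).map t.continuous).mem_open W.isOpen h

end

end Groth.Agent.Lib.GrassBdl.Emb
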