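import Groth.Agent.Lib.GrassRep.Standard
import Mathlib.RingTheory.Valuation.ValuationRing
import Mathlib.RingTheory.Polynomial.Basic
import Mathlib.LinearAlgebra.Matrix.NonsingularInverse

/-!
# Algebra of the charts of the Grassmannian of a free module
-/

set_option autoImplicit false
universe u

open Module Matrix

namespace Groth.Agent.Lib.GrassBdl.Alg

noncomputable section

open Groth.Agent.Lib

variable {R : Type u} [CommRing R] {M : Type u} [AddCommGroup M] [Module R M] {r N : ℕ}

/-- The values of a coordinate map on a tuple. -/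
def mat {A : Type u} [CommRing A] [Module R A] (φ : M →ₗ[R] (Fin r → A)) (y : Fin r → M) :
    Matrix (Fin r) (Fin r) A :=
  Matrix.of fun k => φ (y k)

/-- Some selection of generators has nonzero minor. -/
theorem exists_sel {K : Type u} [Field K] [Algebra R K] {x : Fin r → M} (φ : GrassRep.Phi R x K)
    (e : Fin N → M) (he : Submodule.span R (Set.range e) = ⊤) :
    ∃ σ : Fin r → Fin N, (mat φ.1 fun k => e (σ k)).det ≠ 0 := by
  let v : Fin N → (Fin r → K) := fun j => φ.1 (e j)
  have hv : Submodule.span K (Set.range v) = ⊤ := by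
    have h1 : ∀ m, φ.1 m ∈ (Submodule.span K (Set.range v)).restrictScalars R := fun m => by
      have : (Submodule.span R (Set.range e)).map φ.1 ≤ (Submodule.span K (Set.range v)).restrictScalars R := by
        rw [Submodule.map_span_le]
        rintro _ ⟨j, rfl⟩
        exact Submodule.subset_span ⟨j, rfl⟩
      exact this ⟨m, by rw [he]; exact Submodule.mem_top, rfl⟩
    rw [eq_top_iff, ← (Pi.basisFun K (Fin r)).span_eq, Submodule.span_le]
    rintro _ ⟨k, rfl⟩
    rw [Pi.basisFun_apply, ← φ.2 k]
    exact h1 _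
  obtain ⟨κ, a, b, hb⟩ := Module.exists_basis_of_span_of_flat v hv
  haveI := Module.Finite.finite_basis b
  haveI := Fintype.ofFinite κ
  let ε : κ ≃ Fin r := b.indexEquiv (Pi.basisFun K (Fin r))
  refine ⟨fun k => a (ε.symm k), ?_⟩
  have h : mat φ.1 (fun k => e (a (ε.symm k))) = ((Pi.basisFun K (Fin r)).toMatrix (b.reindex ε)).transpose := by
    ext k i
    simp [mat, Basis.toMatrix_apply, hb, v]
  rw [h, Matrix.det_transpose]
  exact IsUnit.ne_zero ((Matrix.isUnit_iff_isUnit_det _).1
    (haveI := (Pi.basisFun K (Fin r)).invertibleToMatrix (b.reindex ε); isUnit_of_invertible _))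

theorem sel_injective {A : Type u} [CommRing A] [Nontrivial A] [Module R A] (φ : M →ₗ[R] (Fin r → A))
    (e : Fin N → M) {σ : Fin r → Fin N} (h : (mat φ fun k => e (σ k)).det ≠ 0) : Function.Injective σ :=
  fun a b hab => by
    by_contra hne
    exact h (Matrix.det_zero_of_row_eq hne (congrArg (fun j => φ (e j)) hab))

/-- Some selection of generators gives integral coordinates. -/
theorem exists_integral {V : Type u} [CommRing V] [IsDomain V] [ValuationRing V] {K : Type u} [Field K]
    [Algebra V K] [IsFractionRing V K] [Algebra R V] [Algebra R K] [IsScalarTower R V K]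
    {x : Fin r → M} (φ : GrassRep.Phi R x K) (e : Fin N → M) (he : Submodule.span R (Set.range e) = ⊤) :
    ∃ σ : Fin r → Fin N, (mat φ.1 fun k => e (σ k)).det ≠ 0 ∧
      ∀ m i, ∃ a : V, algebraMap V K a = Matrix.vecMul (φ.1 m) (mat φ.1 fun k => e (σ k))⁻¹ i := by
  let w := ValuationRing.valuation V K
  obtain ⟨σ₀, h₀⟩ := exists_sel φ e he
  haveI : Nonempty (Fin r → Fin N) := ⟨σ₀⟩
  obtain ⟨σ, hσ⟩ := Finite.exists_max fun σ : Fin r → Fin N => w (mat φ.1 fun k => e (σ k)).det
  have hne : (mat φ.1 fun k => e (σ k)).det ≠ 0 := fun h => by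
    have := hσ σ₀
    rw [h, map_zero] at this
    exact h₀ (w.zero_iff.1 (le_antisymm this zero_le))
  refine ⟨σ, hne, ?_⟩
  set A := mat φ.1 fun k => e (σ k) with hA
  have key : ∀ v : Fin r → K, ∀ i, Matrix.vecMul v A⁻¹ i * A.det = (A.updateRow i v).det := fun v i => by
    have h1 : v = ∑ k, Matrix.vecMul v A⁻¹ k • A k := by
      conv_lhs => rw [← Matrix.vecMul_one v, ← Matrix.nonsing_inv_mul A hne.isUnit, ← Matrix.vecMul_vecMul]
      funext j
      simp [Matrix.vecMul, dotProduct, Finset.sum_apply]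
    conv_rhs => rw [h1, Matrix.det_updateRow_sum]
    rfl
  have hgen : ∀ j i, Matrix.vecMul (φ.1 (e j)) A⁻¹ i ∈ w.integer := fun j i => by
    have h1 : A.updateRow i (φ.1 (e j)) = mat φ.1 fun k => e (Function.update σ i j k) := by
      ext k l
      rcases eq_or_ne k i with h | h
      · subst h; simp [mat]
      · simp [mat, A, Matrix.updateRow_ne h, Function.update_of_ne h]
    have h2 := key (φ.1 (e j)) i
    rw [h1] at h2
    have h3 := hσ (Function.update σ i j)
    rw [← h2, map_mul] at h3
    show w _ ≤ 1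
    have h4 : 0 < w A.det := zero_lt_iff.2 (w.ne_zero_iff.2 hne)
    exact le_of_mul_le_mul_right (by rwa [one_mul]) h4
  intro m i
  rw [← ValuationRing.mem_integer_iff]
  have hm : m ∈ Submodule.span R (Set.range e) := by rw [he]; exact Submodule.mem_top
  induction hm using Submodule.span_induction generalizing i with
  | mem m hm => obtain ⟨j, rfl⟩ := hm; exact hgen j i
  | zero => simp [Subring.zero_mem]
  | add a b _ _ ha hb =>
    rw [map_add, Matrix.add_vecMul, Pi.add_apply]
    exact add_mem (ha i) (hb i)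
  | smul c a _ ha =>
    rw [map_smul, ← IsScalarTower.algebraMap_smul V c (φ.1 a), ← IsScalarTower.algebraMap_smul K (algebraMap R V c) (φ.1 a),
      Matrix.smul_vecMul, Pi.smul_apply, smul_eq_mul]
    exact mul_mem ((ValuationRing.mem_integer_iff _ _ _).2 ⟨_, rfl⟩) (ha i)

/-- The coordinate map of a standard chart with free coordinates `c`. -/
def freePhi (b : Basis (Fin N) R M) (σ : Fin r ↪ Fin N) {A : Type u} [CommRing A] [Algebra R A]
    (c : GrassRep.Free σ → A) : GrassRep.Phi R (fun k => b (σ k)) A :=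
  ⟨b.constr R fun j i =>
    if h : j ∈ Set.range σ then (Pi.single (Classical.choose h) 1 : Fin r → A) i else c (i, ⟨j, h⟩),
    fun l => by
      have h : σ l ∈ Set.range σ := ⟨l, rfl⟩
      rw [Basis.constr_basis]
      funext i
      rw [dif_pos h, σ.injective (Classical.choose_spec h)]⟩

theorem freePhi_basis (b : Basis (Fin N) R M) (σ : Fin r ↪ Fin N) {A : Type u} [CommRing A] [Algebra R A]
    (c : GrassRep.Free σ → A) (i : Fin r) (j : {j : Fin N // j ∉ Set.range σ}) :
    (freePhi b σ c).1 (b j.1) i = c (i, j) := by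
  rw [freePhi, Basis.constr_basis, dif_neg j.2]

/-- The chart ring of a standard chart is a polynomial ring. -/
def chartEquiv (b : Basis (Fin N) R M) (σ : Fin r ↪ Fin N) :
    MvPolynomial (GrassRep.Free σ) R ≃ₐ[R] GrassRep.S R fun k => b (σ k) :=
  AlgEquiv.ofAlgHom (MvPolynomial.aeval fun p => GrassRep.coord (fun k => b (σ k)) p.1 (b p.2.1))
    (GrassRep.liftS (freePhi b σ MvPolynomial.X))
    (GrassRep.algHom_ext_coord fun i m => by
      rw [AlgHom.comp_apply, GrassRep.liftS_coord, AlgHom.id_apply]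
      let L : M →ₗ[R] GrassRep.S R (fun k => b (σ k)) :=
        (MvPolynomial.aeval fun p => GrassRep.coord (fun k => b (σ k)) p.1 (b p.2.1)).toLinearMap.comp
          ((LinearMap.proj i).comp (freePhi b σ MvPolynomial.X).1)
      let L' : M →ₗ[R] GrassRep.S R (fun k => b (σ k)) :=
        (LinearMap.proj i).comp (GrassRep.phiU R fun k => b (σ k)).1
      have : L = L' := b.ext fun j => by
        by_cases hj : j ∈ Set.range σ
        · obtain ⟨l, rfl⟩ := hj
          show MvPolynomial.aeval _ ((freePhi b σ MvPolynomial.X).1 (b (σ l)) i) =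
            (GrassRep.phiU R fun k => b (σ k)).1 (b (σ l)) i
          rw [(freePhi b σ MvPolynomial.X).2 l, (GrassRep.phiU R fun k => b (σ k)).2 l]
          rcases eq_or_ne i l with h | h
          · subst h; simp
          · simp [Pi.single_eq_of_ne h]
        · show MvPolynomial.aeval _ ((freePhi b σ MvPolynomial.X).1 (b (⟨j, hj⟩ : {j // j ∉ Set.range σ}).1) i) = _
          rw [freePhi_basis, MvPolynomial.aeval_X]
          rfl
      exact LinearMap.congr_fun this m)
    (MvPolynomial.algHom_ext fun p => by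
      rw [AlgHom.comp_apply, MvPolynomial.aeval_X, GrassRep.liftS_coord, AlgHom.id_apply]
      exact freePhi_basis b σ MvPolynomial.X p.1 p.2)

/-- Two selections have a common point, over any field. -/
theorem exists_phi_det_ne_zero (b : Basis (Fin N) R M) (σ τ : Fin r ↪ Fin N) (K : Type u) [Field K] [Algebra R K] :
    ∃ φ : GrassRep.Phi R (fun k => b (σ k)) K, (mat φ.1 fun k => b (τ k)).det ≠ 0 := by
  classical
  let S := Set.range σ
  let T := Set.range τ
  have hcard : Nat.card ↥(T \ S) = Nat.card ↥(S \ T) := by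
    rw [Nat.card_coe_set_eq, Nat.card_coe_set_eq]
    have h1 := Set.ncard_sdiff_add_ncard T S
    have h2 := Set.ncard_sdiff_add_ncard S T
    have e1 : S.ncard = r := by rw [Set.ncard_range_of_injective σ.injective, Nat.card_fin]
    have e2 : T.ncard = r := by rw [Set.ncard_range_of_injective τ.injective, Nat.card_fin]
    rw [Set.union_comm] at h1
    omega
  let ε : ↥(T \ S) ≃ ↥(S \ T) := Nonempty.some (Finite.card_eq.1 hcard)
  let φ := freePhi (A := K) b σ fun p => if h : p.2.1 ∈ T \ S then (if σ p.1 = (ε ⟨_, h⟩).1 then 1 else 0) else 0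
  refine ⟨φ, ?_⟩
  let π : Fin r → Fin r := fun k =>
    if h : τ k ∈ S then Classical.choose h else Classical.choose (ε ⟨τ k, ⟨k, rfl⟩, h⟩).2.1
  have hπS : ∀ k, ∀ h : τ k ∈ S, σ (π k) = τ k := fun k h => by
    simp only [π, dif_pos h]; exact Classical.choose_spec h
  have hπT : ∀ k, ∀ h : τ k ∉ S, σ (π k) = (ε ⟨τ k, ⟨k, rfl⟩, h⟩).1 := fun k h => by
    simp only [π, dif_neg h]; exact Classical.choose_spec (ε ⟨τ k, ⟨k, rfl⟩, h⟩).2.1
  have hπ : Function.Injective π := fun k l hkl => by
    have h0 := congrArg σ hkl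
    by_cases hk : τ k ∈ S <;> by_cases hl : τ l ∈ S
    · rw [hπS k hk, hπS l hl] at h0; exact τ.injective h0
    · rw [hπS k hk, hπT l hl] at h0
      exact absurd (h0 ▸ ⟨k, rfl⟩) (ε ⟨τ l, ⟨l, rfl⟩, hl⟩).2.2
    · rw [hπT k hk, hπS l hl] at h0
      exact absurd (h0 ▸ ⟨l, rfl⟩) (ε ⟨τ k, ⟨k, rfl⟩, hk⟩).2.2
    · rw [hπT k hk, hπT l hl] at h0
      exact τ.injective (congrArg Subtype.val (ε.injective (Subtype.ext h0)))
  have hv : ∀ k, φ.1 (b (τ k)) = Pi.single (π k) 1 := fun k => by
    by_cases hk : τ k ∈ S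
    · rw [← hπS k hk]; exact φ.2 (π k)
    · funext i
      show (freePhi b σ _).1 (b (⟨τ k, hk⟩ : {j // j ∉ Set.range σ}).1) i = _
      rw [freePhi_basis, dif_pos (show τ k ∈ T \ S from ⟨⟨k, rfl⟩, hk⟩)]
      rw [← hπT k hk]
      rcases eq_or_ne i (π k) with h | h
      · subst h; simp
      · rw [if_neg fun e => h (σ.injective e), Pi.single_eq_of_ne h]
  let π' : Equiv.Perm (Fin r) := Equiv.ofBijective π (Finite.injective_iff_bijective.1 hπ)
  have : (mat φ.1 fun k => b (τ k)) = (1 : Matrix (Fin r) (Fin r) K).submatrix π' id := by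
    ext k i
    simp [mat, hv, π', Pi.single_apply, Matrix.one_apply, eq_comm]
  rw [this, Matrix.det_permute]
  rcases Int.units_eq_one_or (Equiv.Perm.sign π') with h | h <;> simp [h]

/-- The kernel of the generic point of a polynomial ring is nilpotent. -/
theorem ker_map_le_nilradical {R : Type u} [CommRing R] {K : Type u} [CommRing K] (q : R →+* K)
    (hq : RingHom.ker q ≤ nilradical R) (ι : Type*) :
    RingHom.ker (MvPolynomial.map (σ := ι) q) ≤ nilradical (MvPolynomial ι R) := by
  rw [MvPolynomial.ker_map, Ideal.map_le_iff_le_comap]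
  intro a ha
  exact mem_nilradical.2 ((mem_nilradical.1 (hq ha)).map MvPolynomial.C)

end

end Groth.Agent.Lib.GrassBdl.Alg
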