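import Groth.Agent.Lib.GrassBdl.Smooth
import Groth.Agent.Lib.Modules.AffineSections

/-!
# Grassmann bundles
-/

set_option autoImplicit false
universe u

open CategoryTheory CategoryTheory.Limits AlgebraicGeometry

namespace Groth.Agent.Lib.GrassBdl.Bundle

open Groth.Agent.Lib GrassGen
open Groth.Agent.Lib.GrassGen.Embed (IsUniv)

variable {X G : Scheme.{u}} {π : G ⟶ X} {V : X.Modules} {r N : ℕ} {Q : G.Modules}
  {q : (Scheme.Modules.pullback π).obj V ⟶ Q}

theorem exists_isUniv [V.IsQuasicoherent] (hG : Grass.IsGrass π V r Q q) :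
    ∃ b : Pt V r (Over.mk π).hom, IsUniv (Over.mk π) b := by
  haveI := hG.epi
  refine ⟨cls q hG.rank, fun T a => ?_⟩
  have key : ∀ (h : T.left ⟶ G) (hg : h ≫ π = T.hom),
      bc h hg (cls q hG.rank) = a ↔ ∃ e : (Scheme.Modules.pullback h).obj Q ≅ _, Grass.quotBC hg q ≫ e.hom = quo a :=
    fun h hg => by
      haveI := GrassRep.QuotBC.epi_quotBC hg (q := q)
      rw [bc_cls h hg _ _ this]
      conv_lhs => rw [← cls_quo a]
      exact cls_eq_iff (TensorMod.LocFree.rank_pullback h hG.rank) (rank_quo a)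
  obtain ⟨h, ⟨hg, he⟩, huniq⟩ := hG.univ T.left T.hom _ (rank_quo a) (quo a) inferInstance
  refine ⟨Over.homMk h hg, (key h hg).2 he, fun g hg' => Over.OverMorphism.ext ?_⟩
  exact huniq g.left ⟨Over.w g, (key g.left (Over.w g)).1 hg'⟩

/-- A Grassmann bundle of a locally free module is smooth, proper, surjective, and irreducible over an
irreducible base. -/
theorem properties (hG : Grass.IsGrass π V r Q q) (hV : FlatMod.IsFinLocFreeOfRank N V) (hr : r ≤ N) :
    SmoothOfRelativeDimension (r * (N - r)) π ∧ IsProper π ∧ Surjective π ∧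
      (IrreducibleSpace X → IrreducibleSpace G) := by
  haveI : V.IsQuasicoherent := Groth.Agent.Lib.Modules.AffineSections.isQCoh_of_isFinLocFree
    (fun x => by obtain ⟨U, hx, h⟩ := hV x; exact ⟨U, N, hx, h⟩)
  obtain ⟨b, hb⟩ := exists_isUniv hG
  have hsm : SmoothOfRelativeDimension (r * (N - r)) π := Smooth.smooth hb hV
  haveI : SmoothOfRelativeDimension (r * (N - r)) (Over.mk π).hom := hsm
  haveI : Smooth (Over.mk π).hom := SmoothOfRelativeDimension.smooth (r * (N - r)) _
  haveI : LocallyOfFiniteType (Over.mk π).hom := inferInstance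
  exact ⟨hsm, Proper.isProper hb hV, Smooth.surjective hb hV hr,
    fun h => haveI := h; Smooth.irreducible hb hV hr⟩

end Groth.Agent.Lib.GrassBdl.Bundle
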