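import Groth.Agent.Lib.GrassGen.Embed
import Groth.Agent.Lib.GrassBdl.Alg

/-!
# Points in charts of a Grassmannian
-/

set_option autoImplicit false
set_option linter.style.haveILetI false
set_option backward.isDefEq.respectTransparency false
set_option backward.isDefEq.respectTransparency.types false
universe u

open CategoryTheory CategoryTheory.Limits AlgebraicGeometry Opposite TopologicalSpace
open ZarCoh.FlatBC.PullbackSections (pbRes)

namespace Groth.Agent.Lib.GrassBdl.ChartPts

noncomputable section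

open Groth.Agent.Lib GrassRep.QuotBC WeilRep.Glue GrassGen
open Groth.Agent.Lib.GrassGen.Embed (IsUniv)
open Groth.Agent.Lib.TensorMod.Dual (rs rs_self)
open Groth.Agent.Lib.Pinch.StalkFrame (IsFrame comb comb_injective comb_surjective rs_pbRes)

variable {X : Scheme.{u}} {E : X.Modules} {r : ℕ} {U : X.Opens} (hU : IsAffineOpen U) (x : Fin r → Γ(E, U))

/-- The coordinate matrix of a tuple on a chart. -/
def M (y : Fin r → Γ(E, U)) : Matrix (Fin r) (Fin r) (GrassRep.S Γ(X, U) x) :=
  Matrix.of fun k i => GrassRep.coord x i (y k)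

/-- The frame locus of a tuple on a chart. -/
theorem O_univ [E.IsQuasicoherent] (y : Fin r → Γ(E, U)) :
    O y (g := (chart hU x).hom) (univClass hU x) = (chart hU x).left.basicOpen (fn hU x (M x y).det) := by
  have hdet : fn hU x (M x y).det =
      (Matrix.of fun k i => fn hU x (GrassRep.coord x i (y k))).det := RingHom.map_det _ _
  have key : ∀ z : (chart hU x).left, (Frames.At (vals y (g := (chart hU x).hom) (cls (Ψ hU x) (rank_free _))) z (chart_le hU x (Set.mem_univ z))) ↔
      IsUnit ((chart hU x).left.presheaf.germ ⊤ z trivial (fn hU x (M x y).det)) := fun z => by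
    rw [at_vals_cls_iff y (Ψ hU x) (rank_free _), ← Frames.at_res _ (chart_le hU x) (x := z) trivial]
    have : (fun k => rs _ (chart_le hU x) ((Ψ hU x).app ((chart hU x).hom ⁻¹ᵁ U)
        (pbRes (chart hU x).hom E le_rfl (y k)))) = fun k => comb (frame hU x) le_rfl (cf hU x (y k)) :=
      funext fun k => by rw [← Modules.TensorSec.app_rs, rs_pbRes, Ψ_app]
    rw [this, hdet]
    exact Frames.at_comb_iff (isFrame_gen _) le_rfl (Matrix.of fun k i => fn hU x (GrassRep.coord x i (y k))) trivial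
  ext z
  rw [SetLike.mem_coe, SetLike.mem_coe, Scheme.mem_basicOpen_top]
  exact ⟨fun h => (key z).1 h.2, fun h => ⟨chart_le hU x (Set.mem_univ z), (key z).2 h⟩⟩

/-- The morphism to a chart given by a ring map. -/
def pt {A : Type u} [CommRing A] (ρ : GrassRep.S Γ(X, U) x →+* A) :
    Spec (CommRingCat.of A) ⟶ (chart hU x).left :=
  Spec.map (CommRingCat.ofHom ρ)

theorem pt_hom {A : Type u} [CommRing A] (ρ : GrassRep.S Γ(X, U) x →+* A) :
    pt hU x ρ ≫ (chart hU x).hom =
      Spec.map (CommRingCat.ofHom (ρ.comp (algebraMap Γ(X, U) (GrassRep.S Γ(X, U) x)))) ≫ hU.fromSpec := by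
  rw [CommRingCat.ofHom_comp, Spec.map_comp, Category.assoc]
  rfl

theorem pt_appTop {A : Type u} [CommRing A] (ρ : GrassRep.S Γ(X, U) x →+* A) (a : GrassRep.S Γ(X, U) x) :
    (pt hU x ρ).appTop (fn hU x a) = (Scheme.ΓSpecIso (CommRingCat.of A)).inv (ρ a) :=
  congr($((Scheme.ΓSpecIso_inv_naturality (CommRingCat.ofHom ρ)).symm) a)

theorem exists_pt {A : Type u} [CommRing A] (t : Spec (CommRingCat.of A) ⟶ (chart hU x).left) :
    ∃ ρ : GrassRep.S Γ(X, U) x →+* A, t = pt hU x ρ := by
  obtain ⟨ρ, hρ⟩ := Spec.map_surjective (R := CommRingCat.of (GrassRep.S Γ(X, U) x)) (S := CommRingCat.of A) t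
  exact ⟨ρ.hom, hρ.symm⟩

theorem range_pt_le [E.IsQuasicoherent] {A : Type u} [CommRing A] (ρ : GrassRep.S Γ(X, U) x →+* A)
    (y : Fin r → Γ(E, U)) (h : IsUnit (ρ (M x y).det)) :
    Set.range (pt hU x ρ) ⊆ (O y (g := (chart hU x).hom) (univClass hU x) : Set (chart hU x).left) := by
  rintro _ ⟨z, rfl⟩
  rw [O_univ, show fn hU x (M x y).det =
    (Scheme.ΓSpecIso (CommRingCat.of (GrassRep.S Γ(X, U) x))).inv (M x y).det from rfl]
  erw [AlgebraicGeometry.basicOpen_eq_of_affine]
  exact fun hm => z.isPrime.ne_top (Ideal.eq_top_of_isUnit_mem _ hm h)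

theorem mem_O_univ_iff [E.IsQuasicoherent] (y : Fin r → Γ(E, U))
    (z : PrimeSpectrum (GrassRep.S Γ(X, U) x)) :
    (show (chart hU x).left from z) ∈ O y (g := (chart hU x).hom) (univClass hU x) ↔ (M x y).det ∉ z.asIdeal := by
  rw [O_univ, show fn hU x (M x y).det =
    (Scheme.ΓSpecIso (CommRingCat.of (GrassRep.S Γ(X, U) x))).inv (M x y).det from rfl]
  erw [AlgebraicGeometry.basicOpen_eq_of_affine]
  rfl

/-- Two morphisms to charts with the same class have proportional coordinates. -/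
theorem exists_transition_of_hom [E.IsQuasicoherent] (y : Fin r → Γ(E, U)) {T : Over X}
    (e : (⊤ : T.left.Opens) ≤ T.hom ⁻¹ᵁ U)
    (a : T.left ⟶ (chart hU x).left) (ha : a ≫ (chart hU x).hom = T.hom)
    (b : T.left ⟶ (chart hU y).left) (hb : b ≫ (chart hU y).hom = T.hom)
    (h : bc b hb (cls (Ψ hU y) (rank_free _)) = bc a ha (cls (Ψ hU x) (rank_free _))) :
    ∃ P : Matrix (Fin r) (Fin r) Γ(T.left, ⊤), ∀ m : Γ(E, U),
      (fun i => a.appTop (fn hU x (GrassRep.coord x i m))) =
        Matrix.vecMul (fun i => b.appTop (fn hU y (GrassRep.coord y i m))) P := by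
  haveI := epi_bc ha (Ψ hU x)
  haveI := epi_bc hb (Ψ hU y)
  rw [bc_cls b hb _ _ (epi_bc hb _), bc_cls a ha _ _ (epi_bc ha _), cls_eq_iff] at h
  obtain ⟨i, hi⟩ := h
  have hfx : IsFrame _ (⊤ : T.left.Opens) fun k => pbRes a _ (le_refl ⊤) (frame hU x k) :=
    (isFrame_gen (chart hU x).left).pbRes a le_rfl
  choose Q hQ using fun k => comb_surjective hfx le_rfl (i.hom.app ⊤ (pbRes b _ (le_refl ⊤) (frame hU y k)))
  refine ⟨Matrix.of Q, fun m => ?_⟩
  have hx := quotBC_Ψ_app (T := T) hU x a ha e m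
  have hy := quotBC_Ψ_app (T := T) hU y b hb e m
  refine comb_injective hfx le_rfl ?_
  refine hx.symm.trans ?_
  rw [← hi, Scheme.Modules.Hom.comp_app, CategoryTheory.comp_apply]
  refine (congrArg _ hy).trans ?_
  simp only [comb, map_sum, Scheme.Modules.Hom.app_smul, rs_self]
  simp only [Matrix.vecMul, dotProduct, Finset.sum_smul, mul_smul, Matrix.of_apply]
  conv_rhs => rw [Finset.sum_comm]
  refine Finset.sum_congr rfl fun k _ => ?_
  rw [← Finset.smul_sum]
  congr 1
  have := hQ k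
  simp only [comb, rs_self] at this
  exact this.symm

/-- Two points of charts with the same class have proportional coordinates. -/
theorem exists_transition [E.IsQuasicoherent] (y : Fin r → Γ(E, U)) {A : Type u} [CommRing A]
    (ρ : GrassRep.S Γ(X, U) x →+* A) (ρ' : GrassRep.S Γ(X, U) y →+* A)
    (hw : pt hU y ρ' ≫ (chart hU y).hom = pt hU x ρ ≫ (chart hU x).hom)
    (h : bc (pt hU y ρ') hw (cls (Ψ hU y) (rank_free _)) = bc (pt hU x ρ) rfl (cls (Ψ hU x) (rank_free _))) :
    ∃ P : Matrix (Fin r) (Fin r) A, ∀ m : Γ(E, U),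
      (fun i => ρ (GrassRep.coord x i m)) = Matrix.vecMul (fun i => ρ' (GrassRep.coord y i m)) P := by
  obtain ⟨Q, hQ⟩ := exists_transition_of_hom hU x y (T := Over.mk (pt hU x ρ ≫ (chart hU x).hom))
    (fun z _ => chart_le hU x (Set.mem_univ (pt hU x ρ z))) (pt hU x ρ) rfl (pt hU y ρ') hw h
  let φ : Γ(Spec (CommRingCat.of A), ⊤) →+* A := (Scheme.ΓSpecIso (CommRingCat.of A)).hom.hom
  refine ⟨(Q : Matrix (Fin r) (Fin r) Γ(Spec (CommRingCat.of A), ⊤)).map φ, fun m => funext fun l => ?_⟩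
  have hinv : ∀ a, φ ((Scheme.ΓSpecIso (CommRingCat.of A)).inv a) = a := fun a =>
    congr($((Scheme.ΓSpecIso (CommRingCat.of A)).inv_hom_id) a)
  have h1 := congrArg φ (congrFun (hQ m) l)
  refine Eq.trans ?_ (h1.trans ?_)
  · exact ((congrArg φ (pt_appTop hU x ρ _)).trans (hinv _)).symm
  · rw [RingHom.map_vecMul φ (Q : Matrix (Fin r) (Fin r) Γ(Spec (CommRingCat.of A), ⊤))]
    refine congrArg (fun v => Matrix.vecMul v _ l) (funext fun k => ?_)
    exact (congrArg φ (pt_appTop hU y ρ' _)).trans (hinv _)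

end

end Groth.Agent.Lib.GrassBdl.ChartPts
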