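import Groth.Agent.Lib.GrassBdl.Tower

/-!
# The morphisms of flag schemes
-/

set_option autoImplicit false
universe u

open CategoryTheory CategoryTheory.Limits AlgebraicGeometry

namespace Groth.Agent.Lib.GrassBdl.Flag

open Groth.Agent.Lib GrassRep.QuotBC Tower

/-- The properties of the morphisms of flag schemes. -/
theorem properties {X F F₀ : Scheme.{u}} {π : F ⟶ X} {π₀ : F₀ ⟶ X} {E : X.Modules} {N : ℕ}
    (hE : FlatMod.IsFinLocFreeOfRank N E) {m : ℕ} {n : Fin m → ℕ} (hn : Antitone n) (hN : ∀ i, n i ≤ N)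
    {Q : Fin m → F.Modules} {q : ∀ i, (Scheme.Modules.pullback π).obj E ⟶ Q i}
    (hF : Grass.IsFlag π E n Q q) {k : ℕ} (hk : k ≤ m)
    {Q₀ : Fin k → F₀.Modules} {q₀ : ∀ i, (Scheme.Modules.pullback π₀).obj E ⟶ Q₀ i}
    (hF₀ : Grass.IsFlag π₀ E (fun i => n (Fin.castLE hk i)) Q₀ q₀)
    (h : F ⟶ F₀) (hw : h ≫ π₀ = π) (hrel : ∀ i, Rel hw (q₀ i) (q (Fin.castLE hk i))) :
    SmoothOfRelativeDimension (dim N n k) h ∧ IsProper h ∧ Surjective h ∧
      (IrreducibleSpace F₀ → IrreducibleSpace F) := by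
  refine induct (fun d {A B} f => SmoothOfRelativeDimension d f ∧ IsProper f ∧ Surjective f ∧
      (IrreducibleSpace B → IrreducibleSpace A)) ?_ ?_ ?_ hE hn hN hF (m - k) k hk (by omega) hF₀ h hw hrel
  · intro A B f hf
    exact ⟨inferInstance, inferInstance, inferInstance,
      fun hB => (asIso f).hom.homeomorph.irreducibleSpace_iff.2 hB⟩
  · rintro a b A B C f g ⟨h1, h2, h3, h4⟩ ⟨g1, g2, g3, g4⟩
    exact ⟨smoothOfRelativeDimension_comp a b f g, inferInstance, inferInstance, fun hC => h4 (g4 hC)⟩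
  · intro A G p M d N R w hG hM hd
    exact Bundle.properties hG hM hd

end Groth.Agent.Lib.GrassBdl.Flag
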