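import Groth.Agent.Lib.GrassBdl.Emb
import Mathlib.AlgebraicGeometry.ValuativeCriterion
import Mathlib.AlgebraicGeometry.Morphisms.QuasiSeparated

/-!
# The Grassmannian of a locally free module is proper
-/

set_option autoImplicit false
set_option linter.style.haveILetI false
set_option backward.isDefEq.respectTransparency false
set_option backward.isDefEq.respectTransparency.types false
universe u

open CategoryTheory CategoryTheory.Limits AlgebraicGeometry Opposite TopologicalSpace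

namespace Groth.Agent.Lib.GrassBdl.Proper

noncomputable section

open Groth.Agent.Lib GrassRep.QuotBC WeilRep.Glue GrassGen ChartPts Emb
open Groth.Agent.Lib.GrassGen.Embed (IsUniv)

variable {X : Scheme.{u}} {E : X.Modules} {r : ℕ} [E.IsQuasicoherent] {G : Over X} {b : Pt E r G.hom}
  (hb : IsUniv G b) {N : ℕ} (hE : FlatMod.IsFinLocFreeOfRank N E)

/-- The coordinates of a point of a chart with values in `A`. -/
theorem coe_mat {U : X.Opens} (x y : Fin r → Γ(E, U)) {A : Type u} [CommRing A]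
    (ρ : GrassRep.S Γ(X, U) x →+* A) :
    (M x y).map ρ = Matrix.of fun k i => ρ (GrassRep.coord x i (y k)) := rfl

theorem map_coord_self {U : X.Opens} (x : Fin r → Γ(E, U)) {A : Type u} [CommRing A]
    (ρ : GrassRep.S Γ(X, U) x →+* A) :
    (Matrix.of fun k i => ρ (GrassRep.coord x i (x k))) = 1 := by
  ext k i
  have h : GrassRep.coord x i (x k) = (Pi.single k 1 : Fin r → GrassRep.S Γ(X, U) x) i :=
    congrFun ((GrassRep.phiU Γ(X, U) x).2 k) i
  show ρ (GrassRep.coord x i (x k)) = _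
  rw [h]
  rcases eq_or_ne i k with e | e
  · subst e; simp
  · simp [Pi.single_eq_of_ne e, Matrix.one_apply_ne (Ne.symm e)]

theorem transition_mat {U : X.Opens} {x y : Fin r → Γ(E, U)} {A : Type u} [CommRing A]
    {ρ : GrassRep.S Γ(X, U) x →+* A} {ρ' : GrassRep.S Γ(X, U) y →+* A} {P : Matrix (Fin r) (Fin r) A}
    (hP : ∀ m, (fun i => ρ (GrassRep.coord x i m)) = Matrix.vecMul (fun i => ρ' (GrassRep.coord y i m)) P) :
    P = (M x y).map ρ ∧ (M y x).map ρ' * P = 1 := by
  have h1 : ∀ z : Fin r → Γ(E, U), (M x z).map ρ = (M y z).map ρ' * P := fun z => by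
    ext k i
    rw [Matrix.mul_apply_eq_vecMul]
    exact congrFun (hP (z k)) i
  refine ⟨?_, ?_⟩
  · rw [h1 y, show (M y y).map ρ' = 1 from map_coord_self y ρ', Matrix.one_mul]
  · rw [← h1 x]; exact map_coord_self x ρ

include hb hE in
/-- A valuative square has at most one lift. -/
theorem uniqueness : ValuativeCriterion.Uniqueness G.hom := by
  intro S
  refine ⟨fun l₁ l₂ => ?_⟩
  obtain ⟨U, hU, hpU, -⟩ := exists_basis hE (S.i₂ (IsLocalRing.closedPoint S.R))
  have hr₁ : G.hom (l₁.l (IsLocalRing.closedPoint S.R)) ∈ U := by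
    rw [← Scheme.Hom.comp_apply, l₁.fac_right]; exact hpU
  have hr₂ : G.hom (l₂.l (IsLocalRing.closedPoint S.R)) ∈ U := by
    rw [← Scheme.Hom.comp_apply, l₂.fac_right]; exact hpU
  obtain ⟨x, hx⟩ := exists_mem (b := b) hU _ hr₁
  obtain ⟨y, hy⟩ := exists_mem (b := b) hU _ hr₂
  obtain ⟨ρ, hρ⟩ := exists_pt_emb hb hU x l₁.l (range_le_of_closedPoint _ _ hx)
  obtain ⟨ρ', hρ'⟩ := exists_pt_emb hb hU y l₂.l (range_le_of_closedPoint _ _ hy)
  let a : S.R →+* S.K := algebraMap S.R S.K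
  have ha : Function.Injective a := IsFractionRing.injective S.R S.K
  have hcomp : ∀ (z : Fin r → Γ(E, U)) (σ : GrassRep.S Γ(X, U) z →+* S.R),
      Spec.map (CommRingCat.ofHom a) ≫ pt hU z σ = pt hU z (a.comp σ) := fun z σ => by
    show _ ≫ Spec.map _ = Spec.map _
    rw [← Spec.map_comp]
    rfl
  have hK : pt hU x (a.comp ρ) ≫ (emb hb hU x).left = pt hU y (a.comp ρ') ≫ (emb hb hU y).left := by
    rw [← hcomp, ← hcomp, Category.assoc, Category.assoc, hρ, hρ']
    exact l₁.fac_left.trans l₂.fac_left.symm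
  obtain ⟨P, hP⟩ := exists_transition_emb hb hU x y _ _ hK
  obtain ⟨hP1, hP2⟩ := transition_mat hP
  have hunit : IsUnit (ρ (M x y).det) := by
    have h1 : ((M y x).map ρ' * (M x y).map ρ).map a = 1 := by
      rw [Matrix.map_mul, ← hP2, hP1]
      rfl
    have h2 : (M y x).map ρ' * (M x y).map ρ = 1 :=
      Matrix.map_injective ha (h1.trans (Matrix.map_one _ (map_zero a) (map_one a)).symm)
    have h3 := congrArg Matrix.det h2
    rw [Matrix.det_mul, Matrix.det_one] at h3
    rw [RingHom.map_det]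
    exact isUnit_iff_exists_inv'.2 ⟨_, h3⟩
  have hsub : Set.range l₁.l ⊆ (O y b : Set G.left) := by
    rw [← hρ]
    rintro _ ⟨z, rfl⟩
    show pt hU x ρ z ∈ (emb hb hU x).left ⁻¹ᵁ O y b
    rw [preimage_O]
    exact range_pt_le hU x ρ y hunit ⟨z, rfl⟩
  obtain ⟨τ, hτ⟩ := exists_pt_emb hb hU y l₁.l hsub
  have hK2 : pt hU y (a.comp τ) = pt hU y (a.comp ρ') := by
    rw [← cancel_mono (emb hb hU y).left, ← hcomp, ← hcomp, Category.assoc, Category.assoc, hτ, hρ']
    exact l₁.fac_left.trans l₂.fac_left.symm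
  have h4 : a.comp τ = a.comp ρ' := congrArg CommRingCat.Hom.hom (Spec.map_injective hK2)
  have h5 : τ = ρ' := RingHom.ext fun s => ha (RingHom.congr_fun h4 s)
  ext1
  rw [← hτ, ← hρ', h5]

include hb hE in
/-- A valuative square has a lift. -/
theorem existence : ValuativeCriterion.Existence G.hom := by
  intro S
  obtain ⟨U, hU, hpU, ⟨e⟩⟩ := exists_basis hE (S.i₂ (IsLocalRing.closedPoint S.R))
  let a : S.R →+* S.K := algebraMap S.R S.K
  have hsub₂ : Set.range S.i₂ ⊆ Set.range hU.fromSpec := by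
    rw [hU.range_fromSpec]
    exact range_le_of_closedPoint _ _ hpU
  obtain ⟨ψ, hψ⟩ := Spec.map_surjective (IsOpenImmersion.lift hU.fromSpec S.i₂ hsub₂)
  have hi₂ : Spec.map ψ ≫ hU.fromSpec = S.i₂ := by rw [hψ, IsOpenImmersion.lift_fac]
  letI : Algebra Γ(X, U) S.R := ψ.hom.toAlgebra
  letI : Algebra Γ(X, U) S.K := (a.comp ψ.hom).toAlgebra
  haveI : IsScalarTower Γ(X, U) S.R S.K := IsScalarTower.of_algebraMap_eq fun _ => rfl
  have hp0 : G.hom (S.i₁ (IsLocalRing.closedPoint S.K)) ∈ U := by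
    rw [← Scheme.Hom.comp_apply, S.commSq.w, Scheme.Hom.comp_apply]
    exact range_le_of_closedPoint S.i₂ U hpU ⟨_, rfl⟩
  obtain ⟨x, hx⟩ := exists_mem (b := b) hU _ hp0
  obtain ⟨ρ, hρ⟩ := exists_pt_emb hb hU x S.i₁ (range_le_of_closedPoint _ _ hx)
  have hρalg : ρ.comp (algebraMap Γ(X, U) (GrassRep.S Γ(X, U) x)) = a.comp ψ.hom := by
    have h := congrArg (· ≫ G.hom) hρ
    simp only [Category.assoc, Over.w] at h
    rw [pt_hom, S.commSq.w, ← hi₂, ← Category.assoc, ← Spec.map_comp, cancel_mono] at h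
    exact congrArg CommRingCat.Hom.hom (Spec.map_injective h)
  let ρa : GrassRep.S Γ(X, U) x →ₐ[Γ(X, U)] S.K :=
    { ρ with commutes' := fun t => RingHom.congr_fun hρalg t }
  let φ : GrassRep.Phi Γ(X, U) x S.K :=
    ⟨(ρa.toLinearMap.compLeft (Fin r)).comp (GrassRep.phiU Γ(X, U) x).1, fun k => funext fun i => by
      show ρ ((GrassRep.phiU Γ(X, U) x).1 (x k) i) = _
      rw [(GrassRep.phiU Γ(X, U) x).2 k]
      rcases eq_or_ne i k with h | h
      · subst h; simp
      · simp [Pi.single_eq_of_ne h]⟩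
  obtain ⟨σ, hσ, hint⟩ := Alg.exists_integral (V := S.R) (K := S.K) φ e e.span_eq
  let y : Fin r → Γ(E, U) := fun k => e (σ k)
  have hmat : Alg.mat φ.1 y = (M x y).map ρ := rfl
  have hdet : IsUnit (ρ (M x y).det) := by
    rw [RingHom.map_det]
    exact hσ.isUnit
  have hsub : Set.range S.i₁ ⊆ (O y b : Set G.left) := by
    rw [← hρ]
    rintro _ ⟨z, rfl⟩
    show pt hU x ρ z ∈ (emb hb hU x).left ⁻¹ᵁ O y b
    rw [preimage_O]
    exact range_pt_le hU x ρ y hdet ⟨z, rfl⟩
  obtain ⟨ρ₁, hρ₁⟩ := exists_pt_emb hb hU y S.i₁ hsub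
  obtain ⟨P, hP⟩ := exists_transition_emb hb hU x y ρ ρ₁ (hρ.trans hρ₁.symm)
  obtain ⟨hP1, -⟩ := transition_mat hP
  have hcoord : ∀ m, (fun i => ρ₁ (GrassRep.coord y i m)) = Matrix.vecMul (φ.1 m) (Alg.mat φ.1 y)⁻¹ := fun m => by
    have h : φ.1 m = Matrix.vecMul (fun i => ρ₁ (GrassRep.coord y i m)) (Alg.mat φ.1 y) := by
      rw [hmat, ← hP1]; exact hP m
    rw [h, Matrix.vecMul_vecMul, Matrix.mul_nonsing_inv _ hσ.isUnit, Matrix.vecMul_one]
  have hc : ∀ m i, ∃ c : S.R, a c = ρ₁ (GrassRep.coord y i m) := fun m i => by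
    obtain ⟨c, hc⟩ := hint m i
    exact ⟨c, hc.trans (congrFun (hcoord m) i).symm⟩
  choose c hc using hc
  have hρ₁alg : ρ₁.comp (algebraMap Γ(X, U) (GrassRep.S Γ(X, U) y)) = a.comp ψ.hom := by
    have h := congrArg (· ≫ G.hom) hρ₁
    simp only [Category.assoc, Over.w] at h
    rw [pt_hom, S.commSq.w, ← hi₂, ← Category.assoc, ← Spec.map_comp, cancel_mono] at h
    exact congrArg CommRingCat.Hom.hom (Spec.map_injective h)
  have ha : Function.Injective a := IsFractionRing.injective S.R S.K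
  let ρ₁a : GrassRep.S Γ(X, U) y →ₐ[Γ(X, U)] S.K :=
    { ρ₁ with commutes' := fun t => RingHom.congr_fun hρ₁alg t }
  have hlin : ∀ m i, a (c m i) = ρ₁a ((GrassRep.phiU Γ(X, U) y).1 m i) := hc
  let φR : GrassRep.Phi Γ(X, U) y S.R :=
    ⟨{ toFun := c
       map_add' := fun m m' => funext fun i => ha (by
        show a (c (m + m') i) = a (c m i + c m' i)
        rw [map_add, hlin, hlin, hlin, map_add, Pi.add_apply, map_add])
       map_smul' := fun t m => funext fun i => ha (by
        show a (c (t • m) i) = a (t • c m i)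
        rw [hlin, map_smul, Pi.smul_apply, map_smul, ← hlin, Algebra.smul_def, Algebra.smul_def, map_mul]
        rfl) },
      fun k => funext fun i => ha (by
        show a (c (y k) i) = _
        rw [hlin, (GrassRep.phiU Γ(X, U) y).2 k]
        rcases eq_or_ne i k with h | h
        · subst h; simp
        · simp [Pi.single_eq_of_ne h])⟩
  let ρR := GrassRep.liftS φR
  have hfac : a.comp ρR.toRingHom = ρ₁ := by
    have : (IsScalarTower.toAlgHom Γ(X, U) S.R S.K).comp ρR = ρ₁a := GrassRep.algHom_ext_coord fun i m => by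
      show a (ρR (GrassRep.coord y i m)) = ρ₁ _
      rw [GrassRep.liftS_coord]
      exact hc m i
    exact congrArg AlgHom.toRingHom this
  refine ⟨⟨⟨pt hU y ρR.toRingHom ≫ (emb hb hU y).left, ?_, ?_⟩⟩⟩
  · rw [← Category.assoc]
    refine Eq.trans ?_ hρ₁
    congr 1
    show _ ≫ Spec.map _ = Spec.map _
    rw [← Spec.map_comp, ← hfac]
    rfl
  · have hal : ρR.toRingHom.comp (algebraMap Γ(X, U) (GrassRep.S Γ(X, U) y)) = ψ.hom :=
      RingHom.ext fun t => ρR.commutes t
    rw [Category.assoc, Over.w, pt_hom, hal, ← hi₂]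
    rfl

include hb hE in
theorem quasiCompact : QuasiCompact G.hom := by
  choose U hU hpU hbasis using exists_basis hE
  have hcov : ⨆ p, U p = ⊤ := top_le_iff.1 fun p _ => Opens.mem_iSup.2 ⟨p, hpU p⟩
  refine (HasAffineProperty.iff_of_iSup_eq_top (P := @QuasiCompact) (fun p => ⟨U p, hU p⟩) hcov).2 fun p => ?_
  show CompactSpace (G.hom ⁻¹ᵁ U p)
  refine (isCompact_iff_compactSpace (s := (G.hom ⁻¹ᵁ U p : Set G.left))).1 ?_
  obtain ⟨e⟩ := hbasis p
  have h : (G.hom ⁻¹ᵁ U p : Set G.left) = ⋃ σ : Fin r → Fin N, (O (fun k => e (σ k)) b : Set G.left) := by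
    refine Set.Subset.antisymm (fun z hz => ?_) (Set.iUnion_subset fun σ => le_preimage _)
    exact Set.mem_iUnion.2 (exists_sel_mem hb (hU p) e e.span_eq z hz)
  rw [h]
  refine isCompact_iUnion fun σ => ?_
  rw [← range_emb hb (hU p)]
  haveI : CompactSpace (chart (hU p) fun k => e (σ k)).left :=
    inferInstanceAs (CompactSpace (PrimeSpectrum _))
  exact isCompact_range (emb hb (hU p) _).left.continuous

include hb hE in
theorem quasiSeparated : QuasiSeparated G.hom := by
  choose U hU hpU hbasis using exists_basis hE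
  have hcov : ⨆ p, U p = ⊤ := top_le_iff.1 fun p _ => Opens.mem_iSup.2 ⟨p, hpU p⟩
  refine (HasAffineProperty.iff_of_iSup_eq_top (P := @QuasiSeparated) (fun p => ⟨U p, hU p⟩) hcov).2 fun p => ?_
  show QuasiSeparatedSpace (G.hom ⁻¹ᵁ U p).toScheme
  obtain ⟨e⟩ := hbasis p
  let V := fun σ : Fin r → Fin N => O (fun k => e (σ k)) b
  let W := G.hom ⁻¹ᵁ U p
  have hVW : ∀ σ, W.ι ''ᵁ (W.ι ⁻¹ᵁ V σ) = V σ := fun σ => by
    rw [Scheme.Hom.image_preimage_eq_opensRange_inf, Scheme.Opens.opensRange_ι]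
    exact inf_eq_right.2 (le_preimage _)
  refine Scheme.quasiSeparatedSpace_of_isOpenCover (fun σ => W.ι ⁻¹ᵁ V σ) ?_ ?_ ?_
  · refine top_le_iff.1 fun z _ => Opens.mem_iSup.2 ?_
    exact exists_sel_mem hb (hU p) e e.span_eq z.1 z.2
  · intro σ
    rw [← Scheme.Hom.isAffineOpen_iff_of_isOpenImmersion W.ι, hVW]
    show IsAffineOpen (O (fun k => e (σ k)) b)
    haveI : IsAffine (chart (hU p) fun k => e (σ k)).left :=
      inferInstanceAs (IsAffine (Spec (CommRingCat.of _)))
    rw [← opensRange_emb hb (hU p)]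
    exact isAffineOpen_opensRange _
  · intro σ τ
    rw [W.ι.isOpenEmbedding.isEmbedding.isCompact_iff]
    have h1 : W.ι '' ((W.ι ⁻¹ᵁ V σ : Set W.toScheme) ∩ (W.ι ⁻¹ᵁ V τ : Set W.toScheme)) =
        (emb hb (hU p) fun k => e (σ k)).left ''
          (O (fun k => e (τ k)) (g := (chart (hU p) fun k => e (σ k)).hom) (univClass (hU p) _) : Set _) := by
      rw [← preimage_O hb (hU p)]
      show W.ι '' (W.ι ⁻¹' (V σ) ∩ W.ι ⁻¹' (V τ)) =
        (emb hb (hU p) fun k => e (σ k)).left '' ((emb hb (hU p) fun k => e (σ k)).left ⁻¹' (V τ))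
      rw [← Set.preimage_inter, Set.image_preimage_eq_inter_range, Set.image_preimage_eq_inter_range,
        range_emb, show Set.range W.ι = (W : Set G.left) from Scheme.Opens.range_ι W,
        Set.inter_comm (V τ : Set G.left)]
      exact Set.inter_eq_left.2 fun z hz => le_preimage _ hz.1
    rw [h1]
    refine IsCompact.image ?_ (emb hb (hU p) _).left.continuous
    rw [O_univ]
    haveI : IsAffine (chart (hU p) fun k => e (σ k)).left :=
      inferInstanceAs (IsAffine (Spec (CommRingCat.of _)))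
    exact ((isAffineOpen_top _).basicOpen _).isCompact

include hb hE in
theorem isProper [LocallyOfFiniteType G.hom] : IsProper G.hom := by
  haveI := quasiCompact hb hE
  haveI := quasiSeparated hb hE
  exact IsProper.of_valuativeCriterion G.hom (ValuativeCriterion.iff.2 ⟨existence hb hE, uniqueness hb hE⟩)

end

end Groth.Agent.Lib.GrassBdl.Proper
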