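import Groth.Agent.Lib.GrassBdl.Proper
import Mathlib.AlgebraicGeometry.Morphisms.Smooth
import Mathlib.RingTheory.Spectrum.Prime.Basic

/-!
# The Grassmannian of a locally free module is smooth, surjective and irreducible over an irreducible base
-/

set_option autoImplicit false
set_option linter.style.haveILetI false
set_option backward.isDefEq.respectTransparency false
set_option backward.isDefEq.respectTransparency.types false
universe u

open CategoryTheory CategoryTheory.Limits AlgebraicGeometry Opposite TopologicalSpace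

namespace Groth.Agent.Lib.GrassBdl.Smooth

noncomputable section

open Groth.Agent.Lib GrassRep.QuotBC WeilRep.Glue GrassGen ChartPts Emb
open Groth.Agent.Lib.GrassGen.Embed (IsUniv)

variable {X : Scheme.{u}} {E : X.Modules} {r : ℕ} [E.IsQuasicoherent] {G : Over X} {b : Pt E r G.hom}
  (hb : IsUniv G b) {N : ℕ} (hE : FlatMod.IsFinLocFreeOfRank N E)

omit [E.IsQuasicoherent] in
theorem smooth_chart {U : X.Opens} (hU : IsAffineOpen U) (e : Module.Basis (Fin N) Γ(X, U) Γ(E, U))
    (σ : Fin r ↪ Fin N) :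
    SmoothOfRelativeDimension (r * (N - r)) (chart hU fun k => e (σ k)).hom := by
  show SmoothOfRelativeDimension (r * (N - r)) (Spec.map _ ≫ hU.fromSpec)
  haveI : SmoothOfRelativeDimension (r * (N - r))
      (Spec.map (CommRingCat.ofHom (algebraMap Γ(X, U) (GrassRep.S Γ(X, U) fun k => e (σ k))))) := by
    let ι := ULift.{u} (GrassRep.Free σ)
    let ε : MvPolynomial ι Γ(X, U) ≃ₐ[Γ(X, U)] GrassRep.S Γ(X, U) (fun k => e (σ k)) :=
      (MvPolynomial.renameEquiv Γ(X, U) Equiv.ulift).trans (Alg.chartEquiv e σ)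
    have hc : (RingHomClass.toRingHom ε.toAlgHom).comp (algebraMap Γ(X, U) (MvPolynomial ι Γ(X, U))) =
        algebraMap Γ(X, U) (GrassRep.S Γ(X, U) fun k => e (σ k)) := ε.toAlgHom.comp_algebraMap
    rw [← hc, CommRingCat.ofHom_comp, Spec.map_comp]
    haveI : IsIso (CommRingCat.ofHom (RingHomClass.toRingHom ε.toAlgHom)) :=
      ε.toRingEquiv.toCommRingCatIso.isIso_hom
    refine (MorphismProperty.cancel_left_of_respectsIso (@SmoothOfRelativeDimension (r * (N - r))) _ _).mpr ?_
    exact GrassRep.smoothOfRelativeDimension_mvPolynomial _ _ ((Nat.card_congr Equiv.ulift).trans (GrassRep.card_free σ))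
  have := smoothOfRelativeDimension_comp (n := r * (N - r)) (m := 0)
    (f := Spec.map (CommRingCat.ofHom (algebraMap Γ(X, U) (GrassRep.S Γ(X, U) fun k => e (σ k))))) (g := hU.fromSpec)
  simpa using this

include hb in
theorem exists_embedding_mem {U : X.Opens} (hU : IsAffineOpen U) (e : Module.Basis (Fin N) Γ(X, U) Γ(E, U))
    (p : G.left) (hp : G.hom p ∈ U) : ∃ σ : Fin r ↪ Fin N, p ∈ O (fun k => e (σ k)) b := by
  obtain ⟨σ, hσ⟩ := exists_sel_mem hb hU e e.span_eq p hp
  refine ⟨⟨σ, fun i j hij => ?_⟩, hσ⟩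
  by_contra hne
  have hm : p ∈ Set.range (emb hb hU fun k => e (σ k)).left := by rw [range_emb]; exact hσ
  obtain ⟨z, -⟩ := hm
  let P : PrimeSpectrum (GrassRep.S Γ(X, U) fun k => e (σ k)) := z
  have h1 : (M (fun k => e (σ k)) fun k => e (σ k)).map (algebraMap _ P.asIdeal.ResidueField) = 1 :=
    Proper.map_coord_self (fun k => e (σ k)) (algebraMap _ P.asIdeal.ResidueField)
  have h2 := congrFun (congrFun h1 i) i
  have h3 := congrFun (congrFun h1 j) i
  simp only [Matrix.map_apply, Matrix.one_apply_eq, Matrix.one_apply_ne (Ne.symm hne)] at h2 h3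
  simp only [M, Matrix.of_apply, hij] at h2 h3
  exact one_ne_zero (h2.symm.trans h3)

include hb hE in
theorem smooth : SmoothOfRelativeDimension (r * (N - r)) G.hom := by
  have key : ∀ p : G.left, ∃ (U : X.Opens) (hU : IsAffineOpen U) (x : Fin r → Γ(E, U)),
      p ∈ O x b ∧ SmoothOfRelativeDimension (r * (N - r)) (chart hU x).hom := fun p => by
    obtain ⟨U, hU, hpU, ⟨e⟩⟩ := exists_basis hE (G.hom p)
    obtain ⟨σ, hσ⟩ := exists_embedding_mem hb hU e p hpU
    exact ⟨U, hU, _, hσ, smooth_chart hU e σ⟩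
  choose U hU x hx hsm using key
  let 𝒰 : G.left.OpenCover := Scheme.Cover.mkOfCovers (P := @IsOpenImmersion) G.left _
    (fun p => (emb hb (hU p) (x p)).left) (fun p => by
      have h : p ∈ Set.range (emb hb (hU p) (x p)).left := by rw [range_emb]; exact hx p
      obtain ⟨z, hz⟩ := h
      exact ⟨p, z, hz⟩) (fun p => inferInstance)
  refine IsZariskiLocalAtSource.of_openCover (P := @SmoothOfRelativeDimension (r * (N - r))) 𝒰 fun p => ?_
  show SmoothOfRelativeDimension _ ((emb hb (hU p) (x p)).left ≫ G.hom)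
  rw [Over.w]
  exact hsm p

omit [E.IsQuasicoherent] in
/-- A standard chart surjects onto its affine open. -/
theorem exists_over {U : X.Opens} (hU : IsAffineOpen U) (e : Module.Basis (Fin N) Γ(X, U) Γ(E, U))
    (σ : Fin r ↪ Fin N) {p : X} (hp : p ∈ U) :
    ∃ z : (chart hU fun k => e (σ k)).left, (chart hU fun k => e (σ k)).hom z = p := by
  let s : GrassRep.S Γ(X, U) (fun k => e (σ k)) →ₐ[Γ(X, U)] Γ(X, U) :=
    GrassRep.liftS (Alg.freePhi e σ fun _ => 0)
  have h : pt hU (fun k => e (σ k)) s.toRingHom ≫ (chart hU fun k => e (σ k)).hom = hU.fromSpec := by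
    rw [pt_hom,
      show s.toRingHom.comp (algebraMap Γ(X, U) (GrassRep.S Γ(X, U) fun k => e (σ k))) = RingHom.id _ from
        RingHom.ext fun t => s.commutes t, CommRingCat.ofHom_id, Spec.map_id, Category.id_comp]
  have hp : p ∈ Set.range hU.fromSpec := by rw [hU.range_fromSpec]; exact hp
  obtain ⟨z, rfl⟩ := hp
  refine ⟨pt hU (fun k => e (σ k)) s.toRingHom z, ?_⟩
  rw [← Scheme.Hom.comp_apply, h]
  rfl

include hb hE in
theorem surjective (hr : r ≤ N) : Surjective G.hom := by
  refine ⟨fun p => ?_⟩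
  obtain ⟨U, hU, hpU, ⟨e⟩⟩ := exists_basis hE p
  obtain ⟨z, hz⟩ := exists_over hU e (Fin.castLEEmb hr) hpU
  refine ⟨(emb hb hU fun k => e (Fin.castLEEmb hr k)).left z, ?_⟩
  rw [← Scheme.Hom.comp_apply, Over.w]
  exact hz

/-- The generic point of a standard chart over an irreducible base. -/
theorem exists_generic [IrreducibleSpace X] {U : X.Opens} (hU : IsAffineOpen U) {p : X} (hp : p ∈ U)
    (e : Module.Basis (Fin N) Γ(X, U) Γ(E, U)) (σ : Fin r ↪ Fin N) :
    ∃ ξ : (chart hU fun k => e (σ k)).left, (∀ z, ξ ⤳ z) ∧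
      ∀ τ : Fin r ↪ Fin N, ξ ∈ O (fun k => e (τ k)) (g := (chart hU fun k => e (σ k)).hom)
        (univClass hU fun k => e (σ k)) := by
  have hη : genericPoint X ∈ Set.range hU.fromSpec := by
    rw [hU.range_fromSpec]
    exact (genericPoint_specializes p).mem_open U.isOpen hp
  obtain ⟨η, hη⟩ := hη
  have hη' : ∀ z, η ⤳ z := fun z => by
    rw [← hU.fromSpec.isOpenEmbedding.isEmbedding.isInducing.specializes_iff, hη]
    exact genericPoint_specializes _
  let P : PrimeSpectrum Γ(X, U) := η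
  have hP : P.asIdeal ≤ nilradical Γ(X, U) := by
    rw [nilradical_eq_sInf]
    refine le_sInf fun J hJ => ?_
    exact (PrimeSpectrum.le_iff_specializes P ⟨J, hJ⟩).2 (hη' _)
  let K := P.asIdeal.ResidueField
  let q : Γ(X, U) →+* K := algebraMap _ K
  have hq : RingHom.ker q ≤ nilradical Γ(X, U) := le_of_eq_of_le (Ideal.ker_algebraMap_residueField _) hP
  let ε := Alg.chartEquiv e σ
  let μ : GrassRep.S Γ(X, U) (fun k => e (σ k)) →+* MvPolynomial (GrassRep.Free σ) K :=
    (MvPolynomial.map q).comp ε.symm.toRingEquiv.toRingHom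
  have hμ : ∀ s ∈ RingHom.ker μ, IsNilpotent s := fun s hs => by
    have h := (Alg.ker_map_le_nilradical q hq _ (show ε.symm s ∈ RingHom.ker (MvPolynomial.map q) from hs))
    simpa using (mem_nilradical.1 h).map ε
  let ξ : PrimeSpectrum (GrassRep.S Γ(X, U) fun k => e (σ k)) := ⟨RingHom.ker μ, RingHom.ker_isPrime μ⟩
  refine ⟨ξ, fun z => ?_, fun τ => (mem_O_univ_iff hU (fun k => e (σ k)) _ ξ).2 fun hm => ?_⟩
  · have hle : ξ ≤ (show PrimeSpectrum (GrassRep.S Γ(X, U) fun k => e (σ k)) from z) := fun s hs =>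
      (hμ s hs).elim fun n hn => (show PrimeSpectrum (GrassRep.S Γ(X, U) fun k => e (σ k)) from z).isPrime.mem_of_pow_mem n (hn ▸ Submodule.zero_mem _)
    exact (PrimeSpectrum.le_iff_specializes _ _).1 hle
  · obtain ⟨φ, hφ⟩ := Alg.exists_phi_det_ne_zero e σ τ K
    refine hφ ?_
    have h := ((hμ _ hm).map (GrassRep.liftS φ)).eq_zero
    rw [AlgHom.map_det] at h
    refine Eq.trans (congrArg Matrix.det ?_) h
    ext k i
    exact (GrassRep.liftS_coord φ i (e (τ k))).symm

include hb hE in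
theorem irreducible [IrreducibleSpace X] (hr : r ≤ N) : IrreducibleSpace G.left := by
  obtain ⟨p₀⟩ : Nonempty X := inferInstance
  haveI : Nonempty G.left := ⟨((surjective hb hE hr).surj p₀).choose⟩
  obtain ⟨U, hU, hpU, ⟨e⟩⟩ := exists_basis hE p₀
  have hηU : genericPoint X ∈ U := (genericPoint_specializes p₀).mem_open U.isOpen hpU
  let σ₀ := Fin.castLEEmb hr
  obtain ⟨ξ₀, hξ₀, -⟩ := exists_generic hU hpU e σ₀
  have key : ∀ A : Set G.left, IsOpen A → A.Nonempty → (emb hb hU fun k => e (σ₀ k)).left ξ₀ ∈ A := by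
    rintro A hA ⟨a, haA⟩
    obtain ⟨U', hU', haU', ⟨e'⟩⟩ := exists_basis hE (G.hom a)
    obtain ⟨σ', hσ'⟩ := exists_embedding_mem hb hU' e' a haU'
    rw [← SetLike.mem_coe, ← range_emb hb hU'] at hσ'
    obtain ⟨w, rfl⟩ := hσ'
    obtain ⟨ξ', hξ', -⟩ := exists_generic hU' haU' e' σ'
    have h1 : (emb hb hU' fun k => e' (σ' k)).left ξ' ∈ A :=
      ((hξ' w).map (emb hb hU' _).left.continuous).mem_open hA haA
    obtain ⟨w', hw'⟩ := exists_over hU' e' σ' ((genericPoint_specializes _).mem_open U'.isOpen haU')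
    have h2 : G.hom ((emb hb hU' fun k => e' (σ' k)).left ξ') ∈ U := by
      rw [← Scheme.Hom.comp_apply, Over.w]
      refine ((hξ' w').map (chart hU' fun k => e' (σ' k)).hom.continuous).mem_open U.isOpen ?_
      rw [SetLike.mem_coe, hw']
      exact hηU
    obtain ⟨τ, hτ⟩ := exists_embedding_mem hb hU e _ h2
    rw [← SetLike.mem_coe, ← range_emb hb hU] at hτ
    obtain ⟨z, hz⟩ := hτ
    obtain ⟨ξτ, hξτ, hξτ'⟩ := exists_generic hU hpU e τ
    have h3 : (emb hb hU fun k => e (τ k)).left ξτ ∈ A :=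
      ((hξτ z).map (emb hb hU _).left.continuous).mem_open hA (hz ▸ h1)
    have h4 : (emb hb hU fun k => e (τ k)).left ξτ ∈ (O (fun k => e (σ₀ k)) b : Set G.left) := by
      show ξτ ∈ (emb hb hU fun k => e (τ k)).left ⁻¹ᵁ O (fun k => e (σ₀ k)) b
      rw [preimage_O]
      exact hξτ' σ₀
    rw [← range_emb hb hU] at h4
    obtain ⟨v, hv⟩ := h4
    exact ((hξ₀ v).map (emb hb hU _).left.continuous).mem_open hA (hv ▸ h3)
  haveI : PreirreducibleSpace G.left := ⟨fun A B hA hB hA' hB' =>
    ⟨_, trivial, key A hA (hA'.mono Set.inter_subset_right), key B hB (hB'.mono Set.inter_subset_right)⟩⟩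
  exact ⟨inferInstance⟩

end

end Groth.Agent.Lib.GrassBdl.Smooth
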