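import Groth.Agent.Lib.GrassBdl.Bundle
import Groth.Agent.Lib.GrassGen.Main

/-!
# Flag schemes are towers of Grassmann bundles
-/

set_option autoImplicit false
set_option linter.style.haveILetI false
universe u

open CategoryTheory CategoryTheory.Limits AlgebraicGeometry

namespace Groth.Agent.Lib.GrassBdl.Tower

open Groth.Agent.Lib GrassRep.QuotBC
open Grass (quotBC IsFlag IsGrass)

theorem tower {X F F' T : Scheme.{u}} {π : F ⟶ X} {π' : F' ⟶ X} {p : F' ⟶ F} {h : T ⟶ F'} {g : T ⟶ F}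
    {g₀ : T ⟶ X} (hp : h ≫ p = g) (h2 : p ≫ π = π') (hg : h ≫ π' = g₀) (hg2 : g ≫ π = g₀)
    {E : X.Modules} {Q : F.Modules} {Q' : F'.Modules} (q : (Scheme.Modules.pullback π).obj E ⟶ Q)
    (φ : (Scheme.Modules.pullback p).obj Q ⟶ Q') :
    quotBC hg2 q ≫ quotBC hp φ = quotBC hg (quotBC h2 q ≫ φ) := by
  subst hp hg
  have hc : ∀ {Y Z : Scheme.{u}} (f : Y ⟶ Z) (M : Z.Modules),
      (Scheme.Modules.pullbackCongr (rfl : f = f)).inv.app M = 𝟙 _ := fun f M => by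
    simp [Scheme.Modules.pullbackCongr]
  rw [quotBC_eq (rfl : h ≫ p = h ≫ p) φ, quotBC_eq (rfl : h ≫ π' = h ≫ π') _, unfoldIso, unfoldIso, hc, hc,
    Category.id_comp, Category.id_comp, ← Category.assoc (quotBC _ q), quotBC_comp h h2 hg2 q]
  simp only [Functor.map_comp, Category.assoc]

/-- Relations compose. -/
theorem rel_trans {X G G' T : Scheme.{u}} {π : G ⟶ X} {π' : G' ⟶ X} {E : X.Modules} {Q : G.Modules}
    {L : G'.Modules} {L' : T.Modules} {k : G' ⟶ G} {hk : k ≫ π = π'}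
    {q : (Scheme.Modules.pullback π).obj E ⟶ Q} {x : (Scheme.Modules.pullback π').obj E ⟶ L} (h₁ : Rel hk q x)
    {l : T ⟶ G'} {g : T ⟶ X} {hl : l ≫ π' = g} {y : (Scheme.Modules.pullback g).obj E ⟶ L'} (h₂ : Rel hl x y) :
    Rel (show (l ≫ k) ≫ π = g by rw [Category.assoc, hk, hl]) q y := by
  obtain ⟨e, he⟩ := h₂
  rw [← he]
  exact (rel_subst hl (Rel.comp h₁ l (show (l ≫ k) ≫ π = l ≫ π' by rw [Category.assoc, hk]))).of_iso e

variable {X F : Scheme.{u}} {π : F ⟶ X} {E : X.Modules}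

/-- Only the identity preserves a universal family. -/
theorem eq_id {m : ℕ} {n : Fin m → ℕ} {Q : Fin m → F.Modules}
    {q : ∀ i, (Scheme.Modules.pullback π).obj E ⟶ Q i} (hF : IsFlag π E n Q q) {f : F ⟶ F} {hf : f ≫ π = π}
    (h : ∀ i, Rel hf (q i) (q i)) : f = 𝟙 F := by
  choose e he using h
  have hid : ∀ i, Rel (Category.id_comp π) (q i) (q i) := fun i => quotBC_id π E (q i)
  choose e' he' using hid
  exact (hF.univ F π Q hF.rank q hF.epi hF.nested).unique ⟨hf, e, he⟩ ⟨Category.id_comp π, e', he'⟩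

/-- Adding a last step to a flag scheme. -/
theorem extend {k : ℕ} {n : Fin (k + 1) → ℕ} {Q : Fin k → F.Modules}
    {q : ∀ i, (Scheme.Modules.pullback π).obj E ⟶ Q i} (hF : IsFlag π E (fun i => n (Fin.castSucc i)) Q q)
    {M : F.Modules} (a : (Scheme.Modules.pullback π).obj E ⟶ M) [Epi a] (ha : ∀ i, ∃ t, q i ≫ t = a)
    (hlast : ∀ {T : Scheme.{u}} {h : T ⟶ F} {g : T ⟶ X} (hg : h ≫ π = g) {L : T.Modules}
      (s : (Scheme.Modules.pullback g).obj E ⟶ L),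
      (∀ i, ∃ t, quotBC hg (q i) ≫ t = s) → ∃ t, quotBC hg a ≫ t = s)
    {G : Scheme.{u}} {p : G ⟶ F} {R : G.Modules} {w : (Scheme.Modules.pullback p).obj M ⟶ R}
    (hG : IsGrass p M (n (Fin.last k)) R w) :
    ∃ (Q' : Fin (k + 1) → G.Modules) (q' : ∀ i, (Scheme.Modules.pullback (p ≫ π)).obj E ⟶ Q' i),
      IsFlag (p ≫ π) E n Q' q' ∧ ∀ i, Rel (rfl : p ≫ π = p ≫ π) (q i) (q' (Fin.castSucc i)) := by
  let P := Σ L : G.Modules, ((Scheme.Modules.pullback (p ≫ π)).obj E ⟶ L)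
  let D : Fin (k + 1) → P :=
    Fin.lastCases ⟨R, quotBC (rfl : p ≫ π = p ≫ π) a ≫ w⟩
      fun i => ⟨(Scheme.Modules.pullback p).obj (Q i), quotBC (rfl : p ≫ π = p ≫ π) (q i)⟩
  have hl : D (Fin.last k) = ⟨R, quotBC (rfl : p ≫ π = p ≫ π) a ≫ w⟩ := Fin.lastCases_last
  have hc : ∀ i, D (Fin.castSucc i) = ⟨(Scheme.Modules.pullback p).obj (Q i), quotBC (rfl : p ≫ π = p ≫ π) (q i)⟩ :=
    fun i => Fin.lastCases_castSucc _
  have hmap : ∀ {L L' : F.Modules} (x : (Scheme.Modules.pullback π).obj E ⟶ L) (t : L ⟶ L'),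
      quotBC (rfl : p ≫ π = p ≫ π) x ≫ (Scheme.Modules.pullback p).map t = quotBC (rfl : p ≫ π = p ≫ π) (x ≫ t) :=
    fun x t => by
      show (_ ≫ _ ≫ _) ≫ _ = _ ≫ _ ≫ _
      rw [Functor.map_comp, Category.assoc, Category.assoc]
  have hrank : ∀ j, FlatMod.IsFinLocFreeOfRank (n j) (D j).1 := Fin.lastCases (by rw [hl]; exact hG.rank)
    fun i => by rw [hc]; exact TensorMod.LocFree.rank_pullback p (hF.rank i)
  have hepi : ∀ j, Epi (D j).2 := Fin.lastCases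
    (by rw [hl]; exact haveI := hG.epi; haveI := epi_quotBC (rfl : p ≫ π = p ≫ π) (q := a); epi_comp _ _)
    fun i => by rw [hc]; exact haveI := hF.epi i; epi_quotBC _
  have hnest : ∀ i j, i ≤ j → ∃ t : (D i).1 ⟶ (D j).1, (D i).2 ≫ t = (D j).2 := by
    refine Fin.lastCases ?_ fun i => ?_
    · intro j hj
      rw [show j = Fin.last k from le_antisymm (Fin.le_last j) hj]
      exact ⟨𝟙 _, Category.comp_id _⟩
    · refine Fin.lastCases ?_ fun j hj => ?_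
      · intro _
        rw [hc, hl]
        obtain ⟨t, ht⟩ := ha i
        exact ⟨(Scheme.Modules.pullback p).map t ≫ w, by rw [← Category.assoc, hmap, ht]⟩
      · rw [hc, hc]
        obtain ⟨t, ht⟩ := hF.nested i j (Fin.castSucc_le_castSucc_iff.mp hj)
        exact ⟨(Scheme.Modules.pullback p).map t, by rw [hmap, ht]⟩
  have hrelD : ∀ i, Rel (rfl : p ≫ π = p ≫ π) (q i) (D (Fin.castSucc i)).2 := fun i => by
    rw [hc]; exact rel_rfl _ _
  refine ⟨fun j => (D j).1, fun j => (D j).2, ⟨hrank, hepi, hnest, ?_⟩, hrelD⟩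
  intro T g L hL s hs hn
  obtain ⟨h₀, ⟨hg₀, e₀, he₀⟩, huniq₀⟩ := hF.univ T g (fun i => L (Fin.castSucc i)) (fun i => hL _)
    (fun i => s (Fin.castSucc i)) (fun i => hs _) fun i j hij => hn _ _ (Fin.castSucc_le_castSucc_iff.mpr hij)
  obtain ⟨t, ht⟩ := hlast hg₀ (s (Fin.last k)) fun i => by
    obtain ⟨τ, hτ⟩ := hn (Fin.castSucc i) (Fin.last k) (Fin.le_last _)
    exact ⟨(e₀ i).hom ≫ τ, by rw [← Category.assoc, he₀, hτ]⟩
  haveI := epi_quotBC hg₀ (q := a)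
  have htE : Epi t := haveI : Epi (quotBC hg₀ a ≫ t) := by rw [ht]; exact hs _
    epi_of_epi (quotBC hg₀ a) t
  obtain ⟨h, ⟨hp, e, he⟩, huniq⟩ := hG.univ T h₀ (L (Fin.last k)) (hL _) t htE
  have hg : h ≫ p ≫ π = g := by rw [← Category.assoc, hp, hg₀]
  have hlast' : ∀ j, Rel hg (D j).2 (s j) := Fin.lastCases
    (by
      rw [hl]
      refine ⟨e, ?_⟩
      rw [← ht, ← he, ← Category.assoc, tower hp (rfl : p ≫ π = p ≫ π) hg hg₀])
    fun i => by
      obtain ⟨j, hj⟩ := Rel.exists_iso hp (rel_trans (hrelD i) (rel_rfl hg (D (Fin.castSucc i)).2))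
        (show Rel hg₀ (q i) (s (Fin.castSucc i)) from ⟨e₀ i, he₀ i⟩)
      exact ⟨j, hj⟩
  choose e' he' using hlast'
  refine ⟨h, ⟨hg, e', he'⟩, fun h' hh' => ?_⟩
  obtain ⟨hg', e'', he''⟩ := hh'
  have hr : ∀ i, Rel (show (h' ≫ p) ≫ π = g by rw [Category.assoc, hg']) (q i) (s (Fin.castSucc i)) := fun i =>
    rel_trans (hrelD i) (show Rel hg' (D (Fin.castSucc i)).2 (s (Fin.castSucc i)) from ⟨e'' _, he'' _⟩)
  choose e₁ he₁ using hr
  have hp' : h' ≫ p = h₀ := huniq₀ (h' ≫ p) ⟨_, e₁, he₁⟩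
  have hlr : Rel hg' (quotBC (rfl : p ≫ π = p ≫ π) a ≫ w) (s (Fin.last k)) := by
    have h1 : Rel hg' (D (Fin.last k)).2 (s (Fin.last k)) := ⟨e'' _, he'' _⟩
    rw [hl] at h1
    exact h1
  obtain ⟨el, hel⟩ := hlr
  refine huniq h' ⟨hp', el, ?_⟩
  rw [← cancel_epi (quotBC hg₀ a), ← Category.assoc, tower hp' (rfl : p ≫ π = p ≫ π) hg' hg₀, hel, ht]

/-- The dimension of the tower above step `k`. -/
def dim (N : ℕ) {m : ℕ} (n : Fin m → ℕ) (k : ℕ) : ℕ :=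
  ∑ i : Fin m, if k ≤ (i : ℕ) then n i * ((Fin.cons N n : Fin (m + 1) → ℕ) (Fin.castSucc i) - n i) else 0

theorem dim_self (N : ℕ) {m : ℕ} (n : Fin m → ℕ) : dim N n m = 0 :=
  Finset.sum_eq_zero fun i _ => if_neg (not_le.2 i.2)

theorem dim_step (N : ℕ) {m : ℕ} (n : Fin m → ℕ) {k : ℕ} (hk : k < m) :
    dim N n k = dim N n (k + 1) +
      n ⟨k, hk⟩ * ((Fin.cons N n : Fin (m + 1) → ℕ) (Fin.castSucc ⟨k, hk⟩) - n ⟨k, hk⟩) := by
  unfold dim
  rw [← Finset.add_sum_erase _ _ (Finset.mem_univ (⟨k, hk⟩ : Fin m)),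
    ← Finset.add_sum_erase (a := (⟨k, hk⟩ : Fin m)) Finset.univ
      (fun i : Fin m => if k + 1 ≤ (i : ℕ) then n i * ((Fin.cons N n : Fin (m + 1) → ℕ) (Fin.castSucc i) - n i) else 0)
      (Finset.mem_univ _)]
  simp only [le_refl, if_true, if_neg (show ¬k + 1 ≤ k by omega), zero_add]
  rw [add_comm]
  refine congrArg (· + _) (Finset.sum_congr rfl fun i hi => ?_)
  have hne : (i : ℕ) ≠ k := fun e => Finset.ne_of_mem_erase hi (Fin.ext e)
  by_cases h : k ≤ (i : ℕ)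
  · rw [if_pos h, if_pos (by omega)]
  · rw [if_neg h, if_neg (by omega)]

/-- Properties of towers of Grassmann bundles hold for the morphisms of flag schemes. -/
theorem induct (P : ℕ → ∀ {A B : Scheme.{u}}, (A ⟶ B) → Prop)
    (hiso : ∀ {A B : Scheme.{u}} (f : A ⟶ B), IsIso f → P 0 f)
    (hcomp : ∀ {a b : ℕ} {A B C : Scheme.{u}} (f : A ⟶ B) (g : B ⟶ C), P a f → P b g → P (a + b) (f ≫ g))
    (hstep : ∀ {A G : Scheme.{u}} (p : G ⟶ A) (M : A.Modules) (d N : ℕ) (R : G.Modules)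
      (w : (Scheme.Modules.pullback p).obj M ⟶ R),
      IsGrass p M d R w → FlatMod.IsFinLocFreeOfRank N M → d ≤ N → P (d * (N - d)) p)
    {N : ℕ} (hE : FlatMod.IsFinLocFreeOfRank N E) {m : ℕ} {n : Fin m → ℕ} (hn : Antitone n)
    (hN : ∀ i, n i ≤ N) {Q : Fin m → F.Modules} {q : ∀ i, (Scheme.Modules.pullback π).obj E ⟶ Q i}
    (hF : IsFlag π E n Q q) : ∀ (j k : ℕ) (hk : k ≤ m), k + j = m → ∀ {F₀ : Scheme.{u}} {π₀ : F₀ ⟶ X}
    {Q₀ : Fin k → F₀.Modules} {q₀ : ∀ i, (Scheme.Modules.pullback π₀).obj E ⟶ Q₀ i},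
      IsFlag π₀ E (fun i => n (Fin.castLE hk i)) Q₀ q₀ → ∀ (h : F ⟶ F₀) (hw : h ≫ π₀ = π),
        (∀ i, Rel hw (q₀ i) (q (Fin.castLE hk i))) → P (dim N n k) h := by
  intro j
  induction j with
  | zero =>
    intro k hk hkm F₀ π₀ Q₀ q₀ hF₀ h hw hrel
    obtain rfl : k = m := by omega
    rw [dim_self]
    refine hiso h ?_
    obtain ⟨l, ⟨hl, e, he⟩, -⟩ := hF.univ F₀ π₀ Q₀ hF₀.rank q₀ hF₀.epi hF₀.nested
    refine ⟨l, eq_id hF (f := h ≫ l) (hf := by rw [Category.assoc, hl, hw]) fun i =>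
        rel_trans (show Rel hl (q i) (q₀ i) from ⟨e i, he i⟩) (hrel i),
      eq_id hF₀ (f := l ≫ h) (hf := by rw [Category.assoc, hw, hl]) fun i =>
        rel_trans (hrel i) (show Rel hl (q i) (q₀ i) from ⟨e i, he i⟩)⟩
  | succ j ih =>
    intro k hk hkm F₀ π₀ Q₀ q₀ hF₀ h hw hrel
    have hk' : k < m := by omega
    have hk1 : k + 1 ≤ m := hk'
    rw [dim_step N n hk']
    set N' := (Fin.cons N n : Fin (m + 1) → ℕ) (Fin.castSucc ⟨k, hk'⟩) with hN'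
    obtain ⟨M, a, hM, haE, haq, hlast, hd⟩ : ∃ (M : F₀.Modules) (a : (Scheme.Modules.pullback π₀).obj E ⟶ M),
        FlatMod.IsFinLocFreeOfRank N' M ∧ Epi a ∧ (∀ i, ∃ t, q₀ i ≫ t = a) ∧
        (∀ {T : Scheme.{u}} {f : T ⟶ F₀} {g : T ⟶ X} (hg : f ≫ π₀ = g) {L : T.Modules}
          (s : (Scheme.Modules.pullback g).obj E ⟶ L),
          (∀ i, ∃ t, quotBC hg (q₀ i) ≫ t = s) → ∃ t, quotBC hg a ≫ t = s) ∧ n ⟨k, hk'⟩ ≤ N' := by
      match k with
      | 0 =>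
        have e0 : N' = N := by
          rw [hN', show Fin.castSucc (⟨0, hk'⟩ : Fin m) = 0 from rfl, Fin.cons_zero]
        rw [e0]
        refine ⟨_, 𝟙 _, ?_, inferInstance, fun i => i.elim0, fun {T f g} hg {L} s _ => ?_, ?_⟩
        · exact TensorMod.LocFree.rank_pullback π₀ hE
        · haveI : IsIso (quotBC hg (𝟙 ((Scheme.Modules.pullback π₀).obj E))) := by
            show IsIso (_ ≫ _ ≫ _); infer_instance
          exact ⟨inv (quotBC hg (𝟙 ((Scheme.Modules.pullback π₀).obj E))) ≫ s, by simp⟩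
        · exact hN _
      | k' + 1 =>
        have e1 : N' = n ⟨k', by omega⟩ := by
          rw [hN', show Fin.castSucc (⟨k' + 1, hk'⟩ : Fin m) = Fin.succ ⟨k', by omega⟩ from rfl, Fin.cons_succ]
        rw [e1]
        refine ⟨Q₀ (Fin.last k'), q₀ (Fin.last k'), ?_, hF₀.epi _, fun i => hF₀.nested i _ (Fin.le_last i),
          fun {T f g} hg {L} s hs => hs _, ?_⟩
        · exact hF₀.rank _
        · exact hn (show (⟨k', by omega⟩ : Fin m) ≤ ⟨k' + 1, hk'⟩ from Nat.le_succ k')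
    haveI := haE
    haveI : M.IsQuasicoherent := Groth.Agent.Lib.Modules.AffineSections.isQCoh_of_isFinLocFree
      (fun x => by obtain ⟨U, hx, h⟩ := hM x; exact ⟨U, N', hx, h⟩)
    obtain ⟨G, p, R, w, hG⟩ := GrassGen.exists_isGrass M (n ⟨k, hk'⟩)
    obtain ⟨Q₁, q₁, hF₁, hrel₁⟩ := extend (n := fun i => n (Fin.castLE hk1 i)) hF₀ a haq hlast hG
    obtain ⟨h', ⟨hh', e', he'⟩, -⟩ := hF₁.univ F π (fun i => Q (Fin.castLE hk1 i)) (fun i => hF.rank _)
      (fun i => q (Fin.castLE hk1 i)) (fun i => hF.epi _) fun i l hil => hF.nested _ _ hil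
    have hrel' : ∀ i, Rel hh' (q₁ i) (q (Fin.castLE hk1 i)) := fun i => ⟨e' i, he' i⟩
    have hcomp' : h' ≫ p = h := by
      choose e₁ he₁ using fun i => rel_trans (hrel₁ i) (hrel' (Fin.castSucc i))
      choose e₂ he₂ using hrel
      exact (hF₀.univ F π _ (fun i => hF.rank _) _ (fun i => hF.epi _)
        fun i l hil => hF.nested _ _ hil).unique ⟨_, e₁, he₁⟩ ⟨hw, e₂, he₂⟩
    rw [← hcomp']
    exact hcomp h' p (ih (k + 1) hk1 (by omega) hF₁ h' hh' hrel') (hstep p M _ N' R w hG hM hd)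

end Groth.Agent.Lib.GrassBdl.Tower
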